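import Mathlib.LinearAlgebra.Dimension.Finite
import Mathlib.LinearAlgebra.Dimension.StrongRankCondition
import Mathlib.LinearAlgebra.FiniteDimensional.Defs
import Mathlib.LinearAlgebra.InvariantBasisNumber
import Mathlib.LinearAlgebra.Charpoly.Basic
import Mathlib.LinearAlgebra.LinearIndependent.Lemmas
import Mathlib.RingTheory.Finiteness.Basic

/-! A finite module over a domain contains a free module of the same rank with cokernel killed by one
nonzero scalar. -/

set_option autoImplicit false

namespace Groth.Agent.DomRank

variable {R M : Type*} [CommRing R] [IsDomain R] [AddCommGroup M] [Module R M] [Module.Finite R M]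

variable (R M) in
theorem exists_frame :
    ∃ (g : (Fin (Module.finrank R M) → R) →ₗ[R] M) (h : M →ₗ[R] (Fin (Module.finrank R M) → R)) (c : R),
      c ≠ 0 ∧ Function.Injective g ∧ (∀ x, g (h x) = c • x) ∧ ∀ y, h (g y) = c • y := by
  classical
  obtain ⟨v, hv⟩ := exists_linearIndependent_of_le_finrank (R := R) (M := M) (le_refl (Module.finrank R M))
  let g : (Fin (Module.finrank R M) → R) →ₗ[R] M := Fintype.linearCombination R v
  have hg : Function.Injective g := by
    refine (injective_iff_map_eq_zero g).2 fun a ha => funext ?_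
    rw [Fintype.linearCombination_apply] at ha
    exact Fintype.linearIndependent_iff.1 hv a ha
  have hdep : ∀ x : M, ∃ c : R, c ≠ 0 ∧ c • x ∈ LinearMap.range g := by
    intro x
    have hn : ¬ LinearIndependent R (Fin.cons x v : Fin (Module.finrank R M + 1) → M) := fun hl => by
      have := hl.fintype_card_le_finrank
      simp at this
    obtain ⟨a, ha, i, hi⟩ := Fintype.not_linearIndependent_iff.1 hn
    rw [Fin.sum_univ_succ] at ha
    simp only [Fin.cons_zero, Fin.cons_succ] at ha
    refine ⟨a 0, fun h0 => ?_, ⟨fun j => -a j.succ, ?_⟩⟩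
    · rw [h0, zero_smul, zero_add] at ha
      have h2 := Fintype.linearIndependent_iff.1 hv (fun j => a j.succ) ha
      exact hi (Fin.cases h0 h2 i)
    · rw [Fintype.linearCombination_apply]
      simp only [neg_smul, Finset.sum_neg_distrib]
      exact (eq_neg_of_add_eq_zero_left ha).symm
  obtain ⟨s, hs⟩ := (Module.Finite.fg_top : (⊤ : Submodule R M).FG)
  choose c hc hcx using hdep
  let C := ∏ x ∈ s, c x
  have hC : C ≠ 0 := Finset.prod_ne_zero_iff.2 fun x _ => hc x
  have hrange : ∀ x : M, C • x ∈ LinearMap.range g := by
    intro x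
    have hle : (⊤ : Submodule R M) ≤ (LinearMap.range g).comap (C • LinearMap.id) := by
      rw [← hs, Submodule.span_le]
      intro y hy
      obtain ⟨d, hd⟩ := Finset.dvd_prod_of_mem c (show y ∈ s from hy)
      change C • y ∈ LinearMap.range g
      rw [show C = c y * d from hd, mul_comm, mul_smul]
      exact Submodule.smul_mem _ _ (hcx y)
    exact hle (Submodule.mem_top (x := x))
  let e := LinearEquiv.ofInjective g hg
  let h : M →ₗ[R] (Fin (Module.finrank R M) → R) :=
    e.symm.toLinearMap ∘ₗ LinearMap.codRestrict (LinearMap.range g) (C • LinearMap.id) hrange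
  have hgh : ∀ x, g (h x) = C • x := fun x => congrArg Subtype.val (e.apply_symm_apply ⟨C • x, hrange x⟩)
  exact ⟨g, h, C, hC, hg, hgh, fun y => hg (by rw [hgh, map_smul])⟩

end Groth.Agent.DomRank
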